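import Groth.Agent.FlatMisc.SteinUC
import Groth.Agent.S2422
import Groth.Agent.BirNormal.Basic
import Groth.Agent.S1297
import Mathlib.AlgebraicGeometry.ZariskisMainTheorem

/-!
# Functions on proper schemes over normal bases; Zariski's main theorem
-/

universe u

set_option backward.isDefEq.respectTransparency false
set_option backward.isDefEq.respectTransparency.types false
set_option linter.style.haveILetI false

open CategoryTheory CategoryTheory.Limits AlgebraicGeometry TopologicalSpace Opposite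

namespace Groth.Agent.ZarConn

variable {X Y : Scheme.{u}}

theorem bijective_comp_iso_iff {A B C : CommRingCat.{u}} (a : A ⟶ B) (b : B ⟶ C) [IsIso b] :
    Function.Bijective (a ≫ b) ↔ Function.Bijective a := by
  show Function.Bijective (⇑b ∘ ⇑a) ↔ Function.Bijective a
  exact Function.Bijective.of_comp_iff' (ConcreteCategory.bijective_of_isIso b) _

theorem ψ_surjective_of_bir [IsIntegral X] [IsIntegral Y] (f : X ⟶ Y) (hgen : f.base (genericPoint X) = genericPoint Y)
    (hbir : IsIso (f.stalkMap (genericPoint X))) (hdom : f.base (genericPoint X) ⤳ genericPoint Y) :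
    Function.Surjective (CohIII.stalkToFunctionField f (genericPoint Y) hdom) := by
  haveI := hbir
  haveI := BirNormal.isIso_stalkSpecializes_of_eq (X := Y) hgen hdom
  exact (ConcreteCategory.bijective_of_isIso (f.stalkMap (genericPoint X))).2.comp
    (ConcreteCategory.bijective_of_isIso (Y.presheaf.stalkSpecializes hdom)).2

theorem isIso_app_of_birational [IsIntegral X] [IsIntegral Y] [IsLocallyNoetherian Y] (hY : Pi1.IsNormalScheme Y)
    (f : X ⟶ Y) [IsProper f] (hgen : f.base (genericPoint X) = genericPoint Y)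
    (hbir : IsIso (f.stalkMap (genericPoint X))) (V : Y.Opens) : IsIso (f.app V) := by
  haveI : IsLocallyNoetherian X := LocallyOfFiniteType.isLocallyNoetherian f
  exact S2422.result hY f (specializes_of_eq hgen) (fun x _ => ψ_surjective_of_bir f hgen hbir _ x) V

/-- Near a normal point the functions upstairs are those downstairs. -/
theorem exists_nhd_isIso_app [IsIntegral X] [IsIntegral Y] [IsLocallyNoetherian Y] (f : X ⟶ Y) [IsProper f]
    (hdom : f.base (genericPoint X) ⤳ genericPoint Y)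
    (halg : ∀ x : X.functionField,
      (∃ q : Polynomial Y.functionField, q ≠ 0 ∧
        Polynomial.eval₂ (CohIII.stalkToFunctionField f (genericPoint Y) hdom) x q = 0) →
      x ∈ Set.range (CohIII.stalkToFunctionField f (genericPoint Y) hdom))
    (y : Y) (hy : IsIntegrallyClosed (Y.presheaf.stalk y)) :
    ∃ U : Y.Opens, y ∈ U ∧ ∀ V : Y.Opens, V ≤ U → IsIso (f.app V) := by
  obtain ⟨_, ⟨U, hU, rfl⟩, hyU, -⟩ :=
    Y.isBasis_affineOpens.exists_subset_of_mem_open (Set.mem_univ y) isOpen_univ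
  have hU' : IsAffineOpen U := hU
  haveI : Nonempty U := ⟨⟨y, hyU⟩⟩
  have hηU : genericPoint Y ∈ U := ((genericPoint_spec Y).mem_open_set_iff U.isOpen).mpr ⟨y, trivial, hyU⟩
  have hηV : genericPoint X ∈ f ⁻¹ᵁ U := hdom.mem_open U.isOpen hηU
  haveI : Nonempty (f ⁻¹ᵁ U : X.Opens) := ⟨⟨_, hηV⟩⟩
  haveI : IsFractionRing Γ(Y, U) Y.functionField := functionField_isFractionRing_of_isAffineOpen Y U hU'
  haveI := hy
  set ψ := CohIII.stalkToFunctionField f (genericPoint Y) hdom with hψ
  have hsq : ∀ a : Γ(Y, U), ψ (algebraMap Γ(Y, U) Y.functionField a) =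
      X.presheaf.germ (f ⁻¹ᵁ U) (genericPoint X) hηV (f.app U a) := fun a => by
    show (f.stalkMap (genericPoint X)).hom (Y.presheaf.stalkSpecializes hdom (Y.presheaf.germ U (genericPoint Y) hηU a)) = _
    rw [TopCat.Presheaf.germ_stalkSpecializes_apply]
    exact f.germ_stalkMap_apply U (genericPoint X) hηV a
  have hgX := germ_injective_of_isIntegral (X := X) (genericPoint X) hηV
  letI := (f.app U).hom.toAlgebra
  haveI : Module.Finite Γ(Y, U) Γ(X, f ⁻¹ᵁ U) := S1297.finite_app f hU'
  have hgen : ∀ b : Γ(X, f ⁻¹ᵁ U), ∃ r : Γ(Y, U), y ∈ Y.basicOpen r ∧ ∃ a, f.app U a = f.app U r * b := fun b => by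
    obtain ⟨P, hP, hP0⟩ : IsIntegral Γ(Y, U) b := Algebra.IsIntegral.isIntegral b
    set z' := X.presheaf.germ (f ⁻¹ᵁ U) (genericPoint X) hηV b with hz'
    have hev : Polynomial.eval₂ (ψ.comp (algebraMap Γ(Y, U) Y.functionField)) z' P = 0 := by
      rw [show ψ.comp (algebraMap Γ(Y, U) Y.functionField) =
        (X.presheaf.germ (f ⁻¹ᵁ U) (genericPoint X) hηV).hom.comp (f.app U).hom from RingHom.ext hsq, hz',
        ← Polynomial.hom_eval₂, show Polynomial.eval₂ (f.app U).hom b P = 0 from hP0, map_zero]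
    obtain ⟨z, hz⟩ := halg z' ⟨P.map (algebraMap Γ(Y, U) Y.functionField), (hP.map _).ne_zero, by
      rw [Polynomial.eval₂_map]; exact hev⟩
    have hs : ∀ a : Γ(Y, U), algebraMap (Y.presheaf.stalk y) Y.functionField (Y.presheaf.germ U y hyU a) =
        algebraMap Γ(Y, U) Y.functionField a := fun a =>
      TopCat.Presheaf.germ_stalkSpecializes_apply Y.presheaf hyU _ a
    have hzint : IsIntegral (Y.presheaf.stalk y) z := by
      refine ⟨P.map (Y.presheaf.germ U y hyU).hom, hP.map _, ψ.injective ?_⟩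
      rw [map_zero, Polynomial.eval₂_map, Polynomial.hom_eval₂, hψ, hz,
        show (algebraMap (Y.presheaf.stalk y) Y.functionField).comp (Y.presheaf.germ U y hyU).hom =
          algebraMap Γ(Y, U) Y.functionField from RingHom.ext hs]
      exact hev
    obtain ⟨c, hc⟩ := IsIntegrallyClosed.isIntegral_iff.1 hzint
    letI := TopCat.Presheaf.algebra_section_stalk Y.presheaf (⟨y, hyU⟩ : U)
    haveI := hU'.isLocalization_stalk ⟨y, hyU⟩
    obtain ⟨⟨a, s⟩, has⟩ := IsLocalization.surj (hU'.primeIdealOf ⟨y, hyU⟩).asIdeal.primeCompl c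
    refine ⟨s.1, (Y.mem_basicOpen _ _ hyU).2 (IsLocalization.map_units (Y.presheaf.stalk y) s), a, hgX ?_⟩
    have has' : c * Y.presheaf.germ U y hyU s.1 = Y.presheaf.germ U y hyU a := has
    rw [map_mul, ← hsq, ← hsq, ← hz', ← hs, ← has', map_mul, map_mul, hc, hs, hψ, hz, mul_comm]
  choose r hr a ha using hgen
  obtain ⟨G, hG⟩ := Module.Finite.fg_top (R := Γ(Y, U)) (M := Γ(X, f ⁻¹ᵁ U))
  classical
  let R := ∏ b ∈ G, r b
  have hR : y ∈ Y.basicOpen R := (Y.mem_basicOpen _ _ hyU).2 (by
    rw [map_prod]; exact IsUnit.prod_iff.2 fun b _ => (Y.mem_basicOpen _ _ hyU).1 (hr b))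
  let S : Submodule Γ(Y, U) Γ(X, f ⁻¹ᵁ U) :=
    (LinearMap.range (Algebra.linearMap Γ(Y, U) Γ(X, f ⁻¹ᵁ U))).comap (LinearMap.lsmul _ _ R)
  have hS : ⊤ ≤ S := by
    rw [← hG, Submodule.span_le]
    intro b hb
    obtain ⟨q, hq⟩ := Finset.dvd_prod_of_mem r hb
    refine ⟨a b * q, ?_⟩
    show f.app U (a b * q) = R • b
    rw [map_mul, ha, show R = r b * q from hq, show (r b * q) • b = f.app U (r b * q) * b from rfl, map_mul]
    ring
  refine ⟨Y.basicOpen R, hR, fun V hV => (ConcreteCategory.isIso_iff_bijective _).2 ?_⟩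
  have hinj : ∀ c, f.app U c = 0 → R * c = 0 := fun c hc => by
    have h1 : algebraMap Γ(Y, U) Y.functionField c = 0 := ψ.injective (by rw [hsq, hc, map_zero, map_zero])
    rw [IsFractionRing.injective Γ(Y, U) Y.functionField (h1.trans (map_zero _).symm), mul_zero]
  have key : ∀ T : (Y.basicOpen R : Scheme.{u}).Opens, Function.Bijective ((f ∣_ Y.basicOpen R).app T) := by
    intro T
    refine FlatMisc.bijective_app_of_isBasis (f ∣_ Y.basicOpen R)
      (B := {T | ∃ s : Γ(Y, U), ((Y.basicOpen R).ι ''ᵁ T) = Y.basicOpen s}) ?_ ?_ T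
    · refine Opens.isBasis_iff_nbhd.2 fun {W x} hx => ?_
      obtain ⟨s, hs, hxs⟩ := hU'.exists_basicOpen_le (V := (Y.basicOpen R).ι ''ᵁ W) ⟨x.1, ⟨x, hx, rfl⟩⟩
        (Y.basicOpen_le R x.2)
      have h1 : (Y.basicOpen R).ι ''ᵁ ((Y.basicOpen R).ι ⁻¹ᵁ Y.basicOpen s) = Y.basicOpen s := by
        rw [Scheme.Hom.image_preimage_eq_opensRange_inf, Scheme.Opens.opensRange_ι, inf_eq_right]
        exact hs.trans ((Y.basicOpen R).ι_image_le W)
      refine ⟨(Y.basicOpen R).ι ⁻¹ᵁ Y.basicOpen s, ⟨s, h1⟩, hxs, fun z hz => ?_⟩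
      obtain ⟨w, hw, hwz⟩ := hs (show z.1 ∈ Y.basicOpen s from hz)
      exact Subtype.ext (hwz : w.1 = z.1) ▸ hw
    · rintro T ⟨s, hs⟩
      have hb := FlatMisc.bijective_app_basicOpen f hU' (r := R) (s := s) hinj (fun b => hS Submodule.mem_top)
        (hs ▸ (Y.basicOpen R).ι_image_le T)
      rw [morphismRestrict_app]
      refine (bijective_comp_iso_iff _ _).2 ?_
      have hb' : ∀ W, W = Y.basicOpen s → Function.Bijective (f.app W) := by rintro _ rfl; exact hb
      exact hb' _ hs
  have h := key ((Y.basicOpen R).ι ⁻¹ᵁ V)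
  have hVe : (Y.basicOpen R).ι ''ᵁ (Y.basicOpen R).ι ⁻¹ᵁ V = V := by
    rw [Scheme.Hom.image_preimage_eq_opensRange_inf, Scheme.Opens.opensRange_ι, inf_eq_right]
    exact hV
  rw [morphismRestrict_app] at h
  have h' := (bijective_comp_iso_iff _ _).1 h
  have hW : ∀ W, W = V → Function.Bijective (f.app W) → Function.Bijective (f.app V) := by rintro _ rfl; exact id
  exact hW _ hVe h'

/-- Functions downstairs make the normalization trivial. -/
theorem isIso_fromNormalization (f : X ⟶ Y) [QuasiCompact f] [QuasiSeparated f]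
    (hO : ∀ U : Y.Opens, Function.Bijective (f.app U)) : IsIso f.fromNormalization := by
  refine IsZariskiLocalAtTarget.of_iSup_eq_top (P := MorphismProperty.isomorphisms Scheme)
    (fun U : Y.affineOpens => U.1) (iSup_affineOpens_eq_top Y) fun U => ?_
  obtain ⟨U, hU⟩ := U
  show IsIso (f.fromNormalization ∣_ U)
  rw [isIso_morphismRestrict_iff_isIso_app f.fromNormalization hU, f.fromNormalization_app hU]
  letI := (f.app U).hom.toAlgebra
  haveI : IsIso (CommRingCat.ofHom (algebraMap Γ(Y, U) (integralClosure Γ(Y, U) Γ(X, f ⁻¹ᵁ U)))) := by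
    refine (ConcreteCategory.isIso_iff_bijective _).2 ⟨fun a b hab => (hO U).1 (congrArg Subtype.val hab), fun b => ?_⟩
    obtain ⟨a, ha⟩ := (hO U).2 b.1
    exact ⟨a, Subtype.ext ha⟩
  infer_instance

/-- The open over which the morphism is quasi-finite. -/
theorem exists_open_isIso_no_isolated (f : X ⟶ Y) [IsSeparated f] [LocallyOfFiniteType f] [QuasiCompact f]
    (hO : ∀ U : Y.Opens, Function.Bijective (f.app U)) :
    ∃ V : Y.Opens, IsIso (f ∣_ V) ∧
      ∀ y : Y, y ∉ (V : Set Y) → ∀ x : ↥(f.fiber y), ¬ IsOpen ({x} : Set ↥(f.fiber y)) := by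
  haveI := isIso_fromNormalization f hO
  obtain ⟨W, hW, he⟩ := f.exists_isIso_morphismRestrict_toNormalization
  refine ⟨inv f.fromNormalization ⁻¹ᵁ W, ?_, fun y hy x hx => hy ?_⟩
  · have hf : IsIso ((f.toNormalization ≫ f.fromNormalization) ∣_ (inv f.fromNormalization ⁻¹ᵁ W)) := by
      haveI : IsIso (f.fromNormalization ∣_ (inv f.fromNormalization ⁻¹ᵁ W)) :=
        MorphismProperty.of_isPullback (P := MorphismProperty.isomorphisms Scheme)
          (isPullback_morphismRestrict _ _).flip ‹IsIso f.fromNormalization›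
      haveI : IsIso (f.toNormalization ∣_ (f.fromNormalization ⁻¹ᵁ inv f.fromNormalization ⁻¹ᵁ W)) := by
        have h : ∀ W' : f.normalization.Opens, W' = W → IsIso (f.toNormalization ∣_ W') := by rintro _ rfl; exact hW
        exact h _ (by rw [← Scheme.Hom.comp_preimage, IsIso.hom_inv_id, Scheme.Hom.id_preimage])
      rw [morphismRestrict_comp]
      exact inferInstanceAs (IsIso (_ ≫ _))
    rwa [f.toNormalization_fromNormalization] at hf
  · have key : ∀ (a : X) (y' : Y), f a = y' → ∀ x' : ↥(f.fiber y'), f.fiberι y' x' = a →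
        IsOpen ({x'} : Set ↥(f.fiber y')) → f.QuasiFiniteAt a := by
      rintro a _ rfl x' hx' hop
      have hxa : f.asFiber a = x' := (f.fiberι (f a)).isEmbedding.injective ((f.fiberι_asFiber a).trans hx'.symm)
      exact Scheme.Hom.quasiFiniteAt_iff_isOpen_singleton_asFiber.2 (hxa ▸ hop)
    have hfx : f (f.fiberι y x) = y := (f.range_fiberι y).le ⟨x, rfl⟩
    set a := f.fiberι y x
    have haW : f.toNormalization a ∈ W := he.ge (key a y hfx x rfl hx)
    show inv f.fromNormalization y ∈ W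
    rw [← hfx]
    rw [← Scheme.Hom.comp_apply, (IsIso.comp_inv_eq _).2 f.toNormalization_fromNormalization.symm]
    exact haW

end Groth.Agent.ZarConn
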