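import Groth.Agent.ProperComp7.Main
import Groth.Agent.FlatLoc6.Cpl
import Groth.Agent.H23.GeomConnGamma
import Groth.Agent.S2363
import Mathlib.AlgebraicGeometry.Morphisms.Flat
import Mathlib.AlgebraicGeometry.Geometrically.Connected

/-!
# Connectedness of the fibres when the functions upstairs are those downstairs
-/

universe u

set_option backward.isDefEq.respectTransparency false
set_option backward.isDefEq.respectTransparency.types false
set_option linter.style.haveILetI false

open CategoryTheory CategoryTheory.Limits AlgebraicGeometry TopologicalSpace Opposite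

namespace Groth.Agent.ZarConn

variable {X Y : Scheme.{u}}

theorem connectedSpace_of_homeomorph {A B : Type*} [TopologicalSpace A] [TopologicalSpace B] [ConnectedSpace A]
    (e : A ≃ₜ B) : ConnectedSpace B :=
  e.surjective.connectedSpace e.continuous

/-- Functions on a flat affine base change. -/
theorem bijective_appTop_of_flat (f : X ⟶ Y) [QuasiCompact f] [QuasiSeparated f]
    {U : Y.Opens} (hU : IsAffineOpen U) [IsIso (f.app U)] {B : Type u} [CommRing B]
    (φ : Γ(Y, U) ⟶ CommRingCat.of B) (hφ : φ.hom.Flat) :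
    Function.Bijective (pullback.snd f (Spec.map φ ≫ hU.fromSpec)).appTop := by
  let q := Spec.map φ ≫ hU.fromSpec
  haveI : Flat (Spec.map φ) := HasRingHomProperty.Spec_iff.2 hφ
  haveI : Flat q := inferInstanceAs (Flat (Spec.map φ ≫ hU.fromSpec))
  have hq : (⊤ : (Spec (CommRingCat.of B)).Opens) ≤ q ⁻¹ᵁ U := fun x _ => by
    show hU.fromSpec (Spec.map φ x) ∈ U
    exact hU.opensRange_fromSpec.le ⟨_, rfl⟩
  have hUY : (⊤ : (pullback f q).Opens) = pullback.fst f q ⁻¹ᵁ (f ⁻¹ᵁ U) ⊓ pullback.snd f q ⁻¹ᵁ ⊤ := by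
    refine (top_unique fun x _ => ⟨?_, trivial⟩).symm
    show f (pullback.fst f q x) ∈ U
    rw [← Scheme.Hom.comp_apply, pullback.condition, Scheme.Hom.comp_apply]
    exact hq trivial
  have H := IsPullback.of_hasPullback f q
  have hiso := isIso_pushoutSection_of_isQuasiSeparated_of_flat_right H (US := U) (UT := ⊤) (UX := f ⁻¹ᵁ U)
    hq le_rfl hUY hU (isAffineOpen_top _) (f.isCompact_preimage hU.isCompact)
    (f.isQuasiSeparated_preimage hU.isQuasiSeparated)
  rw [isIso_pushoutSection_iff] at hiso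
  haveI : IsIso (f.appLE U (f ⁻¹ᵁ U) le_rfl) := by
    rwa [← Scheme.Hom.app_eq_appLE]
  haveI := hiso.isIso_inr_of_isIso
  have h : (pullback.snd f q).appLE ⊤ ⊤ (by simp) = (pullback.snd f q).appTop := by simp [Scheme.Hom.appLE]
  have hb := ConcreteCategory.bijective_of_isIso ((pullback.snd f q).appLE ⊤ ⊤ _)
  rwa [h] at hb

/-- Over a complete local base the closed fibre is connected. -/
theorem connectedSpace_closedFibre {A : Type u} [CommRing A] [IsNoetherianRing A] [IsLocalRing A]
    [IsAdicComplete (IsLocalRing.maximalIdeal A) A] (p : X ⟶ Spec (CommRingCat.of A)) [IsProper p]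
    (hp : Function.Bijective p.appTop) {K : Type u} [Field K] (π : A →+* K) (hπ : Function.Surjective π) :
    ConnectedSpace ↥(pullback p (Spec.map (CommRingCat.ofHom π))) := by
  let e : A ≃+* Γ(X, ⊤) :=
    (Scheme.ΓSpecIso (CommRingCat.of A)).symm.commRingCatIsoToRingEquiv.trans (RingEquiv.ofBijective p.appTop.hom hp)
  haveI : Nontrivial Γ(X, ⊤) := e.injective.nontrivial
  haveI : ConnectedSpace X := H23.GeomConnGamma.connectedSpace_of_idem fun a ha => by
    obtain ⟨b, rfl⟩ := e.surjective a
    have hb : IsIdempotentElem b := e.injective (by rw [map_mul]; exact ha.eq)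
    rcases IsLocalRing.isUnit_or_isUnit_one_sub_self b with h | h
    · exact Or.inr (by rw [h.mul_left_cancel (hb.eq.trans (mul_one b).symm), map_one])
    · refine Or.inl (by rw [show b = 0 from h.mul_left_cancel (by rw [mul_zero, sub_mul, one_mul, hb.eq, sub_self]), map_zero])
  have hb := ProperComp7.bijective_closedFibre (I := IsLocalRing.maximalIdeal A) p
  haveI : Subsingleton (_root_.ConnectedComponents X) := inferInstance
  haveI : Nonempty (_root_.ConnectedComponents X) := inferInstance
  let P₀ := pullback p (Spec.map (CommRingCat.ofHom (Ideal.Quotient.mk (IsLocalRing.maximalIdeal A))))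
  haveI : Subsingleton (_root_.ConnectedComponents P₀) := hb.1.subsingleton
  haveI : Nonempty P₀ := by
    obtain ⟨c, -⟩ := hb.2 (Classical.arbitrary _)
    obtain ⟨x, -⟩ := _root_.ConnectedComponents.surjective_coe c
    exact ⟨x⟩
  haveI : PreconnectedSpace P₀ := preconnectedSpace_iff_connectedComponent.2 fun x =>
    Set.eq_univ_of_forall fun y => _root_.ConnectedComponents.coe_eq_coe'.1 (Subsingleton.elim _ _)
  haveI : ConnectedSpace P₀ := ⟨inferInstance⟩
  have hker : RingHom.ker π = IsLocalRing.maximalIdeal A :=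
    IsLocalRing.eq_maximalIdeal (RingHom.ker_isMaximal_of_surjective π hπ)
  let σ : CommRingCat.of (A ⧸ IsLocalRing.maximalIdeal A) ≅ CommRingCat.of K :=
    ((Ideal.quotEquivOfEq hker.symm).trans (RingHom.quotientKerEquivOfSurjective hπ)).toCommRingCatIso
  have hσ : Spec.map (CommRingCat.ofHom π) =
      Spec.map σ.hom ≫ Spec.map (CommRingCat.ofHom (Ideal.Quotient.mk (IsLocalRing.maximalIdeal A))) := by
    rw [← Spec.map_comp]
    rfl
  let i : P₀ ≅ pullback p (Spec.map (CommRingCat.ofHom π)) :=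
    (asIso (pullback.fst (pullback.snd p (Spec.map (CommRingCat.ofHom (Ideal.Quotient.mk (IsLocalRing.maximalIdeal A))))) (Spec.map σ.hom))).symm ≪≫
      pullbackLeftPullbackSndIso p _ (Spec.map σ.hom) ≪≫ pullback.congrHom rfl hσ.symm
  exact connectedSpace_of_homeomorph i.hom.homeomorph

theorem specMap_fromSpec {U : Y.Opens} (hU : IsAffineOpen U) {y : Y} (hy : y ∈ U) {R K : CommRingCat.{u}}
    (g : Y.presheaf.stalk y ⟶ R) (π : R ⟶ K) (ι : Y.residueField y ⟶ K) (h : g ≫ π = Y.residue y ≫ ι) :
    Spec.map π ≫ Spec.map (Y.presheaf.germ U y hy ≫ g) ≫ hU.fromSpec = Spec.map ι ≫ Y.fromSpecResidueField y := by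
  have h2 : Spec.map (Y.presheaf.germ U y hy) ≫ hU.fromSpec = Y.fromSpecStalk y :=
    hU.fromSpecStalk_eq_fromSpecStalk hy
  rw [Spec.map_comp, Category.assoc, h2, ← Category.assoc, ← Spec.map_comp, h, Spec.map_comp, Category.assoc]
  rfl

/-- Zariski's connectedness theorem in the geometric form. -/
theorem connectedSpace_pullback (f : X ⟶ Y) [IsProper f] [IsLocallyNoetherian Y]
    (hf : ∀ U : Y.Opens, IsIso (f.app U)) {K : Type u} [Field K] (s : Spec (CommRingCat.of K) ⟶ Y) :
    ConnectedSpace ↥(pullback f s) := by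
  obtain ⟨⟨y, ι⟩, rfl⟩ := (Scheme.SpecToEquivOfField K Y).symm.surjective s
  obtain ⟨_, ⟨U, hU, rfl⟩, hyU, -⟩ :=
    Y.isBasis_affineOpens.exists_subset_of_mem_open (Set.mem_univ y) isOpen_univ
  have hU' : IsAffineOpen U := hU
  haveI := hf U
  let A := Y.presheaf.stalk y
  letI : Algebra (IsLocalRing.ResidueField A) K := ι.hom.toAlgebra
  obtain ⟨B, _, _, hBn, hBl, hBh, hBf, e, he⟩ := S2363.result (A := A) K
  haveI := hBn
  haveI := hBl
  haveI := hBh
  haveI := hBf
  haveI := FlatLoc6.isNoetherianRing_cpl B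
  haveI := FlatLoc6.faithfullyFlat_cpl B
  haveI : IsAdicComplete (IsLocalRing.maximalIdeal (EGA4.Cpl B)) (EGA4.Cpl B) := by
    rw [AdicCompletion.maximalIdeal_eq_map]
    exact AdicCompletion.isAdicComplete_self _ (IsNoetherian.noetherian _)
  let mA := (IsLocalRing.maximalIdeal A).map (algebraMap A B)
  have hmA : mA = IsLocalRing.maximalIdeal B :=
    IsLocalRing.eq_maximalIdeal (Ideal.Quotient.maximal_of_isField _ (e.toMulEquiv.isField (Field.toIsField K)))
  let π : EGA4.Cpl B →+* K :=
    (e.toRingHom.comp (Ideal.quotEquivOfEq hmA.symm).toRingHom).comp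
      (AdicCompletion.evalOneₐ (IsLocalRing.maximalIdeal B)).toRingHom
  have hπ : Function.Surjective π :=
    (e.surjective.comp (Ideal.quotEquivOfEq hmA.symm).surjective).comp (AdicCompletion.evalOneₐ_surjective _)
  have hπA : π.comp ((algebraMap B (EGA4.Cpl B)).comp (algebraMap A B)) = ι.hom.comp (IsLocalRing.residue A) := by
    refine RingHom.ext fun a => ?_
    show e (Ideal.quotEquivOfEq hmA.symm (AdicCompletion.evalOneₐ (IsLocalRing.maximalIdeal B)
      (algebraMap B (EGA4.Cpl B) (algebraMap A B a)))) = _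
    rw [AlgHom.commutes]
    exact he a
  let φ : Γ(Y, U) ⟶ CommRingCat.of (EGA4.Cpl B) :=
    Y.presheaf.germ U y hyU ≫ CommRingCat.ofHom ((algebraMap B (EGA4.Cpl B)).comp (algebraMap A B))
  have hφ : φ.hom.Flat := by
    refine RingHom.Flat.comp ?_ (RingHom.Flat.comp (RingHom.flat_algebraMap_iff.2 hBf) (RingHom.flat_algebraMap_iff.2 inferInstance))
    letI := TopCat.Presheaf.algebra_section_stalk Y.presheaf (⟨y, hyU⟩ : U)
    haveI := hU'.isLocalization_stalk ⟨y, hyU⟩
    exact RingHom.flat_algebraMap_iff.2 (IsLocalization.flat (Y.presheaf.stalk y)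
      (hU'.primeIdealOf ⟨y, hyU⟩).asIdeal.primeCompl)
  have hq : Spec.map (CommRingCat.ofHom π) ≫ Spec.map φ ≫ hU'.fromSpec =
      Spec.map ι ≫ Y.fromSpecResidueField y :=
    specMap_fromSpec hU' hyU _ (CommRingCat.ofHom π) ι (CommRingCat.hom_ext hπA)
  haveI := connectedSpace_closedFibre (pullback.snd f (Spec.map φ ≫ hU'.fromSpec))
    (bijective_appTop_of_flat f hU' φ hφ) π hπ
  exact connectedSpace_of_homeomorph
    (pullbackLeftPullbackSndIso f (Spec.map φ ≫ hU'.fromSpec) _ ≪≫ pullback.congrHom rfl hq).hom.homeomorph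

theorem geometricallyConnected (f : X ⟶ Y) [IsProper f] [IsLocallyNoetherian Y]
    (hf : ∀ U : Y.Opens, IsIso (f.app U)) : GeometricallyConnected f :=
  ⟨fun K _ s P fst snd h => by
    haveI := connectedSpace_pullback f hf s
    exact connectedSpace_of_homeomorph h.isoPullback.symm.hom.homeomorph⟩

end Groth.Agent.ZarConn
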