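import Groth.Prelude.Def_Pi1
import Groth.Agent.BirNormal.Basic
import Groth.Agent.CDiv6.Normal
import Mathlib.AlgebraicGeometry.Fiber
import Mathlib.AlgebraicGeometry.Morphisms.Proper
import Mathlib.AlgebraicGeometry.Noetherian

/-!
# Proper birational morphisms in codimension one
-/

universe u

set_option backward.isDefEq.respectTransparency false
set_option backward.isDefEq.respectTransparency.types false
set_option linter.style.haveILetI false

open CategoryTheory CategoryTheory.Limits AlgebraicGeometry TopologicalSpace Opposite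

namespace Groth.Agent.ZarConn

variable {X Y : Scheme.{u}} [IsIntegral X] [IsIntegral Y] [IsLocallyNoetherian Y]

theorem valuationRing_of_dim_le_one (hY : Pi1.IsNormalScheme Y) {y : Y}
    (hy : ¬ 2 ≤ ringKrullDim (Y.presheaf.stalk y)) : ValuationRing (Y.presheaf.stalk y) := by
  haveI := (hY y).1
  haveI := (hY y).2
  rw [ringKrullDim_stalk_eq_coheight] at hy
  have h' : Order.coheight y < 2 := WithBot.coe_lt_coe.1 (not_le.1 hy)
  obtain h0 | h1 : Order.coheight y = 0 ∨ Order.coheight y = 1 := by
    generalize Order.coheight y = c at *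
    cases c with
    | top => exact absurd h' (not_lt.2 le_top)
    | coe k => norm_cast at *; omega
  · haveI : Ring.KrullDimLE 0 (Y.presheaf.stalk y) := Ring.krullDimLE_iff.2 (by
      rw [ringKrullDim_stalk_eq_coheight, h0]; exact le_rfl)
    letI := (Ring.KrullDimLE.isField_of_isDomain (R := Y.presheaf.stalk y)).toField
    infer_instance
  · haveI := CDiv6.isDVR_of_coheight_one hY h1
    infer_instance

/-- Over a point of dimension at most one a birational map is an isomorphism of local rings. -/
theorem bijective_stalkMap (hY : Pi1.IsNormalScheme Y) (f : X ⟶ Y)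
    (hgen : f.base (genericPoint X) = genericPoint Y) (hbir : IsIso (f.stalkMap (genericPoint X))) (x : X)
    (hy : ¬ 2 ≤ ringKrullDim (Y.presheaf.stalk (f x))) : Function.Bijective (f.stalkMap x) := by
  haveI := valuationRing_of_dim_le_one hY hy
  haveI := hbir
  haveI := BirNormal.isIso_stalkSpecializes_of_eq (X := Y) hgen (specializes_of_eq hgen)
  have hηy : genericPoint Y ⤳ f x := (genericPoint_spec Y).specializes trivial
  have hηx : genericPoint X ⤳ x := (genericPoint_spec X).specializes trivial
  have hfη : f (genericPoint X) ⤳ f x := hηx.map f.continuous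
  have sq : ∀ a : Y.presheaf.stalk (f x),
      f.stalkMap (genericPoint X) (Y.presheaf.stalkSpecializes (specializes_of_eq hgen)
        (algebraMap (Y.presheaf.stalk (f x)) Y.functionField a)) =
      algebraMap (X.presheaf.stalk x) X.functionField (f.stalkMap x a) := fun a => by
    obtain ⟨W, hW, s, rfl⟩ := TopCat.Presheaf.exists_germ_eq Y.presheaf a
    show f.stalkMap (genericPoint X) (Y.presheaf.stalkSpecializes (specializes_of_eq hgen)
        (Y.presheaf.stalkSpecializes hηy (Y.presheaf.germ W (f x) hW s))) =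
      X.presheaf.stalkSpecializes hηx (f.stalkMap x (Y.presheaf.germ W (f x) hW s))
    rw [TopCat.Presheaf.germ_stalkSpecializes_apply, TopCat.Presheaf.germ_stalkSpecializes_apply]
    erw [f.germ_stalkMap_apply W (genericPoint X) (hfη.mem_open W.isOpen hW) s, f.germ_stalkMap_apply W x hW s]
    erw [TopCat.Presheaf.germ_stalkSpecializes_apply]
  have hinjX := FaithfulSMul.algebraMap_injective (X.presheaf.stalk x) X.functionField
  refine ⟨fun a b hab => FaithfulSMul.algebraMap_injective (Y.presheaf.stalk (f x)) Y.functionField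
    ((ConcreteCategory.bijective_of_isIso (Y.presheaf.stalkSpecializes (specializes_of_eq hgen))).1
      ((ConcreteCategory.bijective_of_isIso (f.stalkMap (genericPoint X))).1 (by rw [sq, sq, hab]))), fun b => ?_⟩
  obtain ⟨z', hz'⟩ := (ConcreteCategory.bijective_of_isIso (f.stalkMap (genericPoint X))).2
    (algebraMap (X.presheaf.stalk x) X.functionField b)
  obtain ⟨z, rfl⟩ := (ConcreteCategory.bijective_of_isIso (Y.presheaf.stalkSpecializes (specializes_of_eq hgen))).2 z'
  rcases ValuationRing.isInteger_or_isInteger (Y.presheaf.stalk (f x)) z with ⟨a, ha⟩ | ⟨a, ha⟩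
  · exact ⟨a, hinjX (by rw [← sq, ha, hz'])⟩
  · rcases eq_or_ne z 0 with rfl | hz0
    · exact ⟨0, hinjX (by rw [← hz', map_zero, map_zero, map_zero, map_zero])⟩
    have hprod : f.stalkMap x a * b = 1 := hinjX (by
      rw [map_mul, ← sq, ← hz', ha, map_one, ← map_mul, ← map_mul, inv_mul_cancel₀ hz0, map_one, map_one])
    obtain ⟨c, hc⟩ : IsUnit a := (isUnit_map_iff (f.stalkMap x).hom a).1 (IsUnit.of_mul_eq_one b hprod)
    refine ⟨↑c⁻¹, left_inv_eq_right_inv ?_ hprod⟩
    rw [← map_mul, ← hc, Units.inv_mul, map_one]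

theorem two_le_dim_of_no_isolated (hY : Pi1.IsNormalScheme Y) (f : X ⟶ Y) [IsProper f]
    (hgen : f.base (genericPoint X) = genericPoint Y) (hbir : IsIso (f.stalkMap (genericPoint X)))
    (y : Y) (hno : ∀ x : ↥(f.fiber y), ¬ IsOpen ({x} : Set ↥(f.fiber y))) :
    2 ≤ ringKrullDim (Y.presheaf.stalk y) := by
  by_contra hy
  haveI : LocallyOfFiniteType (f.fiberToSpecResidueField y) := MorphismProperty.pullback_snd _ _ inferInstance
  haveI : IsNoetherian (f.fiber y) :=
    { toIsLocallyNoetherian := LocallyOfFiniteType.isLocallyNoetherian (f.fiberToSpecResidueField y) }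
  have hT : ∀ a b : ↥(f.fiber y), a ⤳ b → a = b := fun a b hab => by
    have ha : f (f.fiberι y a) = y := (f.range_fiberι y).le ⟨a, rfl⟩
    have hb : f (f.fiberι y b) = y := (f.range_fiberι y).le ⟨b, rfl⟩
    set x := f.fiberι y b
    have hbij := bijective_stalkMap hY f hgen hbir x (by rw [hb]; exact hy)
    haveI : IsIso (f.stalkMap x) := (ConcreteCategory.isIso_iff_bijective _).2 hbij
    obtain ⟨P, hP⟩ : f.fiberι y a ∈ Set.range (X.fromSpecStalk x) := by
      rw [Scheme.range_fromSpecStalk]
      exact hab.map (f.fiberι y).continuous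
    have h1 : Y.fromSpecStalk (f x) (Spec.map (f.stalkMap x) P) = f (X.fromSpecStalk x P) := by
      rw [← Scheme.Hom.comp_apply, Scheme.SpecMap_stalkMap_fromSpecStalk, Scheme.Hom.comp_apply]
    have h2 : Spec.map (f.stalkMap x) P = IsLocalRing.closedPoint (Y.presheaf.stalk (f x)) :=
      (Y.fromSpecStalk (f x)).isEmbedding.injective (by
        rw [h1, hP, ha, Scheme.fromSpecStalk_closedPoint, hb])
    have h3 : P = IsLocalRing.closedPoint (X.presheaf.stalk x) := by
      refine (ConcreteCategory.bijective_of_isIso (Spec.map (f.stalkMap x)).base).1 (h2.trans ?_)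
      exact (IsLocalRing.comap_closedPoint (f.stalkMap x).hom).symm
    exact (f.fiberι y).isEmbedding.injective (hP.symm.trans (h3 ▸ Scheme.fromSpecStalk_closedPoint))
  have hclosed : ∀ x : ↥(f.fiber y), IsClosed ({x} : Set ↥(f.fiber y)) := fun x => by
    have : closure ({x} : Set ↥(f.fiber y)) = {x} := Set.eq_singleton_iff_unique_mem.2
      ⟨subset_closure rfl, fun z hz => (hT x z (specializes_iff_mem_closure.2 hz)).symm⟩
    exact this ▸ isClosed_closure
  haveI : T1Space ↥(f.fiber y) := ⟨hclosed⟩
  have hfin : (Set.univ : Set ↥(f.fiber y)).Finite := by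
    refine (NoetherianSpace.finite_irreducibleComponents.biUnion fun Z hZ => ?_).subset
      ((sUnion_irreducibleComponents (X := ↥(f.fiber y))).ge.trans (le_of_eq Set.sUnion_eq_biUnion))
    obtain ⟨g, hg⟩ := QuasiSober.sober hZ.1 (isClosed_of_mem_irreducibleComponents Z hZ)
    rw [← (hg : closure {g} = Z), (hclosed g).closure_eq]
    exact Set.finite_singleton g
  haveI : Finite ↥(f.fiber y) := Set.finite_univ_iff.1 hfin
  obtain ⟨x, hx⟩ : ∃ x : X, f x = y := by
    have : y ∈ closure (Set.range f) := closure_mono (Set.singleton_subset_iff.2 (Set.mem_range.2 ⟨genericPoint X, hgen⟩))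
      (specializes_iff_mem_closure.1 ((genericPoint_spec Y).specializes trivial))
    rwa [f.isClosedMap.isClosed_range.closure_eq] at this
  obtain ⟨z, -⟩ := (f.range_fiberι y).ge (show x ∈ f ⁻¹' {y} from hx)
  exact hno z (isOpen_discrete _)

end Groth.Agent.ZarConn
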